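import Groth.Agent.Lib.SiteStalk.Germ
import Groth.Agent.Lib.Modules.StalkModule
import Mathlib.Topology.Sheaves.Points

/-!
# Stalks at the point of the site of opens given by `x`

Comparison of `ModSite.stalkRing` / `ModSite.stalkMod` at `Opens.pointGrothendieckTopology x` with the
usual stalks of a scheme.
-/

set_option autoImplicit false
universe u

open CategoryTheory CategoryTheory.Limits AlgebraicGeometry Opposite TopologicalSpace

noncomputable section

namespace Groth.Agent.Lib.SchPoint.Basic

open Groth.Agent.Lib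

variable {X : Scheme.{u}} (x : X)

/-- The point of the site of opens given by `x`. -/
abbrev pt : GrothendieckTopology.Point.{u} (Opens.grothendieckTopology X) :=
  Opens.pointGrothendieckTopology x

variable {x} in
/-- The element of the fibre at a neighbourhood. -/
def el {U : X.Opens} (h : x ∈ U) : (pt x).fiber.obj U := ⟨⟨h⟩⟩

section Ab

variable (F : X.Modules)

/-- The cocone on neighbourhoods defined by the germs of the site. -/
def cocone : Cocone ((OpenNhds.inclusion x).op ⋙ F.presheaf) where
  pt := AddCommGrpCat.of (ModSite.stalkAb (O := X.sheaf) (pt x) F)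
  ι :=
    { app := fun U => AddCommGrpCat.ofHom
        (SiteStalk.Germ.germHom (pt x) (O := X.sheaf) F U.unop.1 (el U.unop.2))
      naturality := fun U V i => by
        ext s
        exact SiteStalk.Germ.germHom_res (pt x) (O := X.sheaf) F _ (el V.unop.2) s }

/-- `F_x ⟶` the stalk at the point. -/
def toPt : F.presheaf.stalk x →+ ModSite.stalkAb (O := X.sheaf) (pt x) F :=
  (colimit.desc _ (cocone x F)).hom

theorem toPt_germ {U : X.Opens} (h : x ∈ U) (s : Γ(F, U)) :
    toPt x F (F.presheaf.germ U x h s) = SiteStalk.Germ.germHom (pt x) (O := X.sheaf) F U (el h) s :=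
  ConcreteCategory.congr_hom (colimit.ι_desc (cocone x F) (op (⟨U, h⟩ : OpenNhds x))) s

theorem toPt_bijective : Function.Bijective (toPt x F) := by
  constructor
  · rw [injective_iff_map_eq_zero]
    intro v hv
    obtain ⟨U, hx, s, rfl⟩ := TopCat.Presheaf.exists_germ_eq F.presheaf v
    rw [toPt_germ] at hv
    obtain ⟨V, g, hg, ⟨⟨hy⟩⟩, -⟩ := SiteStalk.Germ.hit_of_germ_eq_zero (pt x) (O := X.sheaf) F _ s hv
    refine (TopCat.Presheaf.germ_res_apply F.presheaf g x hy s).symm.trans ?_
    exact (congrArg (F.presheaf.germ V x hy) hg).trans (map_zero _)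
  · intro m
    obtain ⟨U, ⟨⟨hU⟩⟩, s, rfl⟩ := SiteStalk.Germ.exists_germ (pt x) (O := X.sheaf) F m
    exact ⟨F.presheaf.germ U x hU s, toPt_germ x F hU s⟩

end Ab

/-- The cocone on neighbourhoods defined by the germs of the site, for functions. -/
def coconeRing : Cocone ((OpenNhds.inclusion x).op ⋙ X.presheaf) where
  pt := ModSite.stalkRing (pt x) X.sheaf
  ι :=
    { app := fun U => CommRingCat.ofHom
        (SiteStalk.Germ.germRingHom (pt x) (O := X.sheaf) U.unop.1 (el U.unop.2))
      naturality := fun U V i => by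
        ext r
        exact SiteStalk.Germ.germRingHom_res (pt x) (O := X.sheaf) _ (el V.unop.2) r }

/-- `O_{X,x} ⟶` the stalk ring at the point. -/
def toPtRing : X.presheaf.stalk x →+* ModSite.stalkRing (pt x) X.sheaf :=
  (colimit.desc _ (coconeRing x)).hom

theorem toPtRing_germ {U : X.Opens} (h : x ∈ U) (r : Γ(X, U)) :
    toPtRing x (X.presheaf.germ U x h r) = SiteStalk.Germ.germRingHom (pt x) (O := X.sheaf) U (el h) r :=
  ConcreteCategory.congr_hom (colimit.ι_desc (coconeRing x) (op (⟨U, h⟩ : OpenNhds x))) r

theorem toPtRing_bijective : Function.Bijective (toPtRing x) := by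
  constructor
  · rw [injective_iff_map_eq_zero]
    intro v hv
    obtain ⟨U, hx, r, rfl⟩ := TopCat.Presheaf.exists_germ_eq X.presheaf v
    rw [toPtRing_germ] at hv
    obtain ⟨V, g, hg, ⟨⟨hy⟩⟩, -⟩ := SiteStalk.Germ.hit_of_germRing_eq_zero (pt x) (O := X.sheaf) _ r hv
    refine (TopCat.Presheaf.germ_res_apply X.presheaf g x hy r).symm.trans ?_
    exact (congrArg (X.presheaf.germ V x hy) hg).trans (map_zero _)
  · intro m
    obtain ⟨U, ⟨⟨hU⟩⟩, r, rfl⟩ := SiteStalk.Germ.exists_germRing (pt x) (O := X.sheaf) m
    exact ⟨X.presheaf.germ U x hU r, toPtRing_germ x hU r⟩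

/-- The two stalks of the structure sheaf agree. -/
def ringEquiv : ModSite.stalkRing (pt x) X.sheaf ≃+* X.presheaf.stalk x :=
  (RingEquiv.ofBijective (toPtRing x) (toPtRing_bijective x)).symm

theorem toPt_smul (F : X.Modules) (a : X.presheaf.stalk x) (v : F.presheaf.stalk x) :
    toPt x F (a • v) =
      @HSMul.hSMul (ModSite.stalkRing (pt x) X.sheaf) (ModSite.stalkAb (O := X.sheaf) (pt x) F) _
        (@instHSMul _ _ (ModSite.moduleStalk (O := X.sheaf) (pt x) F).toSMul) (toPtRing x a) (toPt x F v) := by
  obtain ⟨U, hx, r, m, rfl, rfl⟩ := Modules.StalkModule.exists_germ_eq₂ (M := F) a v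
  rw [← Modules.StalkModule.germ_smul, toPt_germ, toPt_germ, toPtRing_germ]
  exact SiteStalk.Germ.germHom_smul (pt x) (O := X.sheaf) F (el hx) r m

/-- A semilinearity check gives a morphism of modules. -/
def mkHom {S : Type u} [CommRing S] (A B : ModuleCat.{u} S) (f : A →+ B)
    (h : ∀ (s : S) (v : A), f (s • v) = s • f v) : A ⟶ B :=
  ModuleCat.ofHom { f with map_smul' := h }

/-- `toPt` as a morphism of modules over the stalk ring at the point. -/
def homPt (F : X.Modules) :
    (ModuleCat.restrictScalars (ringEquiv x).toRingHom).obj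
        ((Modules.StalkModule.stalkModFunctor X x).obj F) ⟶
      ModSite.stalkMod (O := X.sheaf) (pt x) F :=
  mkHom _ _ (toPt x F) fun s v => by
    refine (toPt_smul x F (ringEquiv x s) v).trans ?_
    rw [show toPtRing x (ringEquiv x s) = s from
      (RingEquiv.ofBijective (toPtRing x) (toPtRing_bijective x)).apply_symm_apply s]
    rfl

/-- The stalk at the point is the stalk with scalars restricted along `ringEquiv`. -/
def modIso (F : X.Modules) :
    (ModuleCat.restrictScalars (ringEquiv x).toRingHom).obj
        ((Modules.StalkModule.stalkModFunctor X x).obj F) ≅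
      ModSite.stalkMod (O := X.sheaf) (pt x) F :=
  @asIso _ _ _ _ (homPt x F) ((ConcreteCategory.isIso_iff_bijective _).2 (toPt_bijective x F))

end Groth.Agent.Lib.SchPoint.Basic
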